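import Groth.Agent.VeroneseTildeLib.Point

/-!
The sheaf of a graded module on the Veronese.
-/

set_option autoImplicit false
set_option linter.style.haveILetI false
set_option linter.unusedSectionVars false
set_option backward.isDefEq.respectTransparency false

universe u

open CategoryTheory TopologicalSpace AlgebraicGeometry Opposite HomogeneousLocalization
open Groth.Agent.GrTildeLib

noncomputable section

namespace Groth.Agent.VeroneseTildeLib

variable {R A B : Type u} [CommRing R] [CommRing A] [Algebra R A] {𝒜 : ℕ → Submodule R A} [GradedAlgebra 𝒜]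
  [CommRing B] [Algebra R B] {ℬ : ℕ → Submodule R B} [GradedAlgebra ℬ]
  {d : ℕ} {φ : B →ₐ[R] A}
  (hd : 0 < d) (hφ : Function.Injective φ)
  (hdeg : ∀ n : ℕ, Submodule.map φ.toLinearMap (ℬ n) = 𝒜 (n * d))
  {e : Proj 𝒜 ≅ Proj ℬ} (he : ChartCond hd hdeg e)
  {M : Type u} [AddCommGroup M] [Module R M] [Module A M]
  {ℳ : ℕ → Submodule R M} [DirectSum.Decomposition ℳ] [SetLike.GradedSMul 𝒜 ℳ]
  {N : Type u} [AddCommGroup N] [Module R N] [Module B N]
  {𝒩 : ℕ → Submodule R N} [DirectSum.Decomposition 𝒩] [SetLike.GradedSMul ℬ 𝒩]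
  (v : N →ₛₗ[φ.toRingHom] M) (hv : Function.Injective v)
  (hvdeg : ∀ n : ℕ, (𝒩 n : Set N).image v = (ℳ (n * d) : Set M))

/-- Pullback along an isomorphism is an equivalence. -/
theorem isEquivalence_pullback {X Y : Scheme.{u}} (g : X ⟶ Y) [IsIso g] :
    (Scheme.Modules.pullback g).IsEquivalence := by
  haveI : (Scheme.Modules.pushforward g).IsEquivalence :=
    (CategoryTheory.Equivalence.mk (Scheme.Modules.pushforward g) (Scheme.Modules.pushforward (inv g))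
      ((Scheme.Modules.pushforwardId X).symm ≪≫
        (Scheme.Modules.pushforwardCongr (IsIso.hom_inv_id g)).symm ≪≫
        (Scheme.Modules.pushforwardComp g (inv g)).symm)
      ((Scheme.Modules.pushforwardComp (inv g) g) ≪≫
        Scheme.Modules.pushforwardCongr (IsIso.inv_hom_id g) ≪≫
        Scheme.Modules.pushforwardId Y)).isEquivalence_functor
  exact (Scheme.Modules.pullbackPushforwardAdjunction g).isEquivalence_left_of_isEquivalence_right

/-- A denominator upstairs. -/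
abbrev den (x : Proj 𝒜) (s : (e.hom x).asHomogeneousIdeal.toIdeal.primeCompl) :
    x.asHomogeneousIdeal.toIdeal.primeCompl :=
  ⟨φ s.1, fun h => s.2 ((mem_point hd hφ hdeg he x s.1).2 h)⟩

/-- The map of localized modules. -/
def Ψ (x : Proj 𝒜) : GrTilde.LocMod ℬ (M := N) (e.hom x) → GrTilde.LocMod 𝒜 (M := M) x :=
  fun q => LocalizedModule.liftOn q (fun p => LocalizedModule.mk (v p.1) (den hd hφ hdeg he x p.2))
    fun p p' ⟨u, hu⟩ => by
      refine LocalizedModule.mk_eq.2 ⟨den hd hφ hdeg he x u, ?_⟩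
      have := congrArg v hu
      simp only [Submonoid.smul_def, LinearMap.map_smulₛₗ] at this ⊢
      exact this

theorem Ψ_mk (x : Proj 𝒜) (b : N) (s : (e.hom x).asHomogeneousIdeal.toIdeal.primeCompl) :
    Ψ hd hφ hdeg he v x (LocalizedModule.mk b s) = LocalizedModule.mk (v b) (den hd hφ hdeg he x s) := rfl

theorem Ψ_zero (x : Proj 𝒜) : Ψ hd hφ hdeg he v x 0 = 0 := by
  rw [← LocalizedModule.zero_mk 1, Ψ_mk, map_zero, LocalizedModule.zero_mk]

theorem Ψ_add (x : Proj 𝒜) (p q : GrTilde.LocMod ℬ (M := N) (e.hom x)) :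
    Ψ hd hφ hdeg he v x (p + q) = Ψ hd hφ hdeg he v x p + Ψ hd hφ hdeg he v x q := by
  induction p using LocalizedModule.induction_on with
  | h a s =>
    induction q using LocalizedModule.induction_on with
    | h b t =>
      rw [LocalizedModule.mk_add_mk, Ψ_mk, Ψ_mk, Ψ_mk, LocalizedModule.mk_add_mk]
      refine LocalizedModule.mk_eq.2 ⟨1, ?_⟩
      simp only [Submonoid.smul_def, OneMemClass.coe_one, one_smul, map_add, LinearMap.map_smulₛₗ,
        Submonoid.coe_mul, map_mul, den]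
      rfl

theorem Ψ_smul (x : Proj 𝒜) (c : Twist.Loc ℬ (e.hom x)) (q : GrTilde.LocMod ℬ (M := N) (e.hom x)) :
    Ψ hd hφ hdeg he v x (c • q) = locMap hd hφ hdeg he x c • Ψ hd hφ hdeg he v x q := by
  induction q using LocalizedModule.induction_on with
  | h b t =>
    induction c using Localization.induction_on with
    | H z =>
      obtain ⟨r, s⟩ := z
      rw [LocalizedModule.mk_smul_mk, Ψ_mk, Ψ_mk, locMap_mk, LocalizedModule.mk_smul_mk]
      refine LocalizedModule.mk_eq.2 ⟨1, ?_⟩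
      simp only [Submonoid.smul_def, OneMemClass.coe_one, one_smul, LinearMap.map_smulₛₗ,
        Submonoid.coe_mul, map_mul, den]
      rfl

include hvdeg in
theorem v_mem {i : ℕ} {b : N} (hb : b ∈ 𝒩 i) : v b ∈ ℳ (i * d) :=
  (hvdeg i).le ⟨b, hb, rfl⟩

include hvdeg in
theorem Ψ_mem (x : Proj 𝒜) {n : ℤ} {q : GrTilde.LocMod ℬ (M := N) (e.hom x)}
    (hq : q ∈ GrTilde.tildeAt ℬ 𝒩 n (e.hom x)) : Ψ hd hφ hdeg he v x q ∈ GrTilde.tildeAt 𝒜 ℳ (n * d) x := by
  obtain ⟨i, j, m, s, hs, hij, rfl⟩ := exists_rep hq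
  rcases hij with hij | hij
  · exact Submodule.subset_span ⟨i * d, j * d, ⟨v m.1, v_mem v hvdeg m.2⟩, ⟨φ s.1, mem hdeg s.2⟩,
      (den hd hφ hdeg he x ⟨s.1, hs⟩).2, by push_cast; rw [hij]; ring, rfl⟩
  · rw [Ψ_mk, hij, map_zero, LocalizedModule.zero_mk]
    exact zero_mem _

include hv hvdeg in
theorem Ψ_eq_zero (x : Proj 𝒜) {n : ℤ} {q : GrTilde.LocMod ℬ (M := N) (e.hom x)}
    (hq : q ∈ GrTilde.tildeAt ℬ 𝒩 n (e.hom x)) (h : Ψ hd hφ hdeg he v x q = 0) : q = 0 := by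
  classical
  obtain ⟨i, j, m, s, hs, -, rfl⟩ := exists_rep hq
  rw [Ψ_mk] at h
  obtain ⟨t, ht, htm⟩ := mk_eq_zero.1 h
  obtain ⟨l, hl⟩ : ∃ l, (DirectSum.decompose 𝒜 t l : A) ∉ x.asHomogeneousIdeal := by
    by_contra hne
    push Not at hne
    refine ht ?_
    show t ∈ x.asHomogeneousIdeal.toIdeal
    rw [← DirectSum.sum_support_decompose 𝒜 t]
    exact Ideal.sum_mem _ fun k _ => hne k
  have h0 := decompose_smul_eq_zero (𝒜 := 𝒜) (ℳ := ℳ) (v_mem v hvdeg m.2) htm l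
  obtain ⟨w, -, hw⟩ := (hdeg l).ge (show (DirectSum.decompose 𝒜 t l : A) ^ d ∈ 𝒜 (l * d) by
    simpa [mul_comm] using SetLike.pow_mem_graded d (DirectSum.decompose 𝒜 t l).2)
  have hw' : φ w = (DirectSum.decompose 𝒜 t l : A) ^ d := hw
  refine mk_eq_zero.2 ⟨w, fun hmem => hl (x.isPrime.mem_of_pow_mem d ?_), hv ?_⟩
  · exact hw' ▸ (mem_point hd hφ hdeg he x w).1 hmem
  · rw [LinearMap.map_smulₛₗ, map_zero]
    show φ w • v m.1 = 0
    obtain ⟨d', rfl⟩ : ∃ d', d = d' + 1 := ⟨d - 1, by omega⟩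
    rw [hw', pow_succ, mul_smul, h0, smul_zero]

/-- Sections go to sections. -/
def mapSect {n k : ℤ} (hk : n * d = k) (V : (Proj ℬ).Opens) (f : Γ(GrTilde.tilde ℬ 𝒩 n, V)) :
    Γ(GrTilde.tilde 𝒜 ℳ k, e.hom ⁻¹ᵁ V) :=
  (⟨fun x => ⟨Ψ hd hφ hdeg he v x.1 (valAt f ⟨e.hom x.1, x.2⟩),
      hk ▸ Ψ_mem hd hφ hdeg he v hvdeg x.1 ((f : GrTilde.sect ℬ 𝒩 n (op V)).1 ⟨e.hom x.1, x.2⟩).2⟩,
    fun x => by
      obtain ⟨W, hW, i, a, b, m, s, nin, hc, hw⟩ := (f : GrTilde.sect ℬ 𝒩 n (op V)).2 ⟨e.hom x.1, x.2⟩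
      refine ⟨e.hom ⁻¹ᵁ W, hW, homOfLE (fun y hy => i.le hy), a * d, b * d, ⟨v m.1, v_mem v hvdeg m.2⟩,
        ⟨φ s.1, mem hdeg s.2⟩, fun y h => nin ⟨e.hom y.1, y.2⟩ ((mem_point hd hφ hdeg he y.1 s.1).2 h), ?_, fun y => ?_⟩
      · rcases hc with hc | hc
        · exact Or.inl (by push_cast; rw [hc, ← hk]; ring)
        · exact Or.inr (show v m.1 = 0 by rw [hc, map_zero])
      · show Ψ hd hφ hdeg he v y.1 (valAt f ⟨e.hom y.1, i.le y.2⟩) = _
        exact congrArg (Ψ hd hφ hdeg he v y.1) (hw ⟨e.hom y.1, y.2⟩)⟩ : GrTilde.sect 𝒜 ℳ k (op (e.hom ⁻¹ᵁ V)))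

theorem valAt_mapSect {n k : ℤ} (hk : n * d = k) (V : (Proj ℬ).Opens) (f : Γ(GrTilde.tilde ℬ 𝒩 n, V))
    (x : (e.hom ⁻¹ᵁ V : (Proj 𝒜).Opens)) :
    valAt (mapSect hd hφ hdeg he v hvdeg hk V f) x = Ψ hd hφ hdeg he v x.1 (valAt f ⟨e.hom x.1, x.2⟩) := rfl

/-- The comparison map. -/
def cmp {n k : ℤ} (hk : n * d = k) :
    GrTilde.tilde ℬ 𝒩 n ⟶ (Scheme.Modules.pushforward e.hom).obj (GrTilde.tilde 𝒜 ℳ k) :=
  SheafOfModules.Hom.mk <| PresheafOfModules.homMk
    { app := fun U => AddCommGrpCat.ofHom (AddMonoidHom.mk'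
        (fun f => (mapSect hd hφ hdeg he v hvdeg hk U.unop f :))
        (fun f g => sect_ext fun x => by
          rw [valAt_mapSect, valAt_add, Ψ_add]
          rfl))
      naturality := fun {U V} i => rfl }
    fun U c f => by
      refine sect_ext (fun x => ?_)
      show valAt (mapSect hd hφ hdeg he v hvdeg hk U.unop ((c : Γ(Proj ℬ, U.unop)) • f)) x =
        valAt ((e.hom.app U.unop c) • mapSect hd hφ hdeg he v hvdeg hk U.unop f) x
      rw [valAt_mapSect, valAt_smul, Ψ_smul, valAt_smul, valAt_mapSect, val_app hd hφ hdeg he U.unop c x]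

include hv in
theorem isIso_cmp {n k : ℤ} (hk : n * d = k) : IsIso (cmp hd hφ hdeg he v hvdeg hk) := by
  rw [Scheme.Modules.Hom.isIso_iff_isIso_app]
  intro V
  rw [ConcreteCategory.isIso_iff_bijective]
  refine ⟨(injective_iff_map_eq_zero _).2 fun f hf => sect_ext fun y => ?_, fun g => ?_⟩
  · obtain ⟨x, hx⟩ := e.hom.homeomorph.surjective y.1
    obtain ⟨y, hy⟩ := y
    replace hx : e.hom x = y := hx
    subst hx
    have h := congrArg (fun s => valAt (ℳ := ℳ) s (⟨x, hy⟩ : (e.hom ⁻¹ᵁ V : (Proj 𝒜).Opens))) hf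
    exact Ψ_eq_zero hd hφ hdeg he v hv hvdeg x ((f : GrTilde.sect ℬ 𝒩 n (op V)).1 ⟨e.hom x, hy⟩).2 h
  · have hex : ∀ y : V, ∃ q : GrTilde.tildeAt ℬ 𝒩 n y.1, ∀ x : (e.hom ⁻¹ᵁ V : (Proj 𝒜).Opens),
        ∀ h : e.hom x.1 = y.1, Ψ hd hφ hdeg he v x.1 (h ▸ q.1) = valAt g x := by
      intro y
      obtain ⟨x, hx⟩ := e.hom.homeomorph.surjective y.1
      obtain ⟨y, hy⟩ := y
      replace hx : e.hom x = y := hx
      subst hx
      obtain ⟨i, j, m, s, hs, hij, hq⟩ := exists_rep ((g : GrTilde.sect 𝒜 ℳ k (op (e.hom ⁻¹ᵁ V))).1 ⟨x, hy⟩).2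
      have key : ∃ q ∈ GrTilde.tildeAt ℬ 𝒩 n (e.hom x), Ψ hd hφ hdeg he v x q = valAt g ⟨x, hy⟩ := by
        rcases hij with hij | hij
        · obtain ⟨q₀, hq₀⟩ : ∃ q₀ : ℕ, (q₀ : ℤ) = j + n := by
            refine ⟨(((j : ℤ) + n)).toNat, Int.toNat_of_nonneg ?_⟩
            by_contra hneg
            push Not at hneg
            have : ((j : ℤ) + n) * d ≤ -(d : ℤ) := by nlinarith
            have h5 : ((i : ℤ) + j * (d - 1)) = (j + n) * d := by rw [hij, ← hk]; ring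
            have h6 : (0 : ℤ) ≤ (i : ℤ) + j * (d - 1) := by
              have : (0 : ℤ) ≤ (d : ℤ) - 1 := by omega
              positivity
            omega
          obtain ⟨d', rfl⟩ : ∃ d', d = d' + 1 := ⟨d - 1, by omega⟩
          obtain ⟨w, hwj, hw⟩ := (hdeg j).ge (show s.1 ^ (d' + 1) ∈ 𝒜 (j * (d' + 1)) by
            simpa [mul_comm] using SetLike.pow_mem_graded (d' + 1) s.2)
          have hdeg' : s.1 ^ d' • m.1 ∈ ℳ (q₀ * (d' + 1)) := by
            have := SetLike.GradedSMul.smul_mem (SetLike.pow_mem_graded d' s.2) m.2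
            rw [show q₀ * (d' + 1) = d' * j + i by
              zify
              rw [hq₀, hij, ← hk]
              push_cast
              ring]
            exact this
          obtain ⟨b, hb, hvb⟩ := (hvdeg q₀).ge hdeg'
          have hw' : φ w = s.1 ^ (d' + 1) := hw
          have hwx : w ∉ (e.hom x).asHomogeneousIdeal := fun h =>
            hs (x.isPrime.mem_of_pow_mem (d' + 1) (hw' ▸ (mem_point hd hφ hdeg he x w).1 h))
          refine ⟨LocalizedModule.mk b ⟨w, hwx⟩,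
            Submodule.subset_span ⟨q₀, j, ⟨b, hb⟩, ⟨w, hwj⟩, hwx, hq₀, rfl⟩, ?_⟩
          refine Eq.trans ?_ hq.symm
          rw [Ψ_mk]
          refine LocalizedModule.mk_eq.2 ⟨1, ?_⟩
          simp only [Submonoid.smul_def, OneMemClass.coe_one, one_smul, den, hvb, hw', smul_smul]
          rw [pow_succ, mul_comm]
        · refine ⟨0, zero_mem _, ?_⟩
          rw [Ψ_zero]
          refine Eq.trans ?_ hq.symm
          rw [hij, LocalizedModule.zero_mk]
      obtain ⟨q, hqm, hqe⟩ := key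
      exact ⟨⟨q, hqm⟩, fun x' h => by
        obtain ⟨x', hx'⟩ := x'
        obtain rfl : x' = x := e.hom.homeomorph.injective h
        exact hqe⟩
    choose q hq using hex
    have hloc : (GrTilde.isLocFrac ℬ 𝒩 n).pred (fun y : V => q y) := by
      intro y
      obtain ⟨x, hx⟩ := e.hom.homeomorph.surjective y.1
      obtain ⟨y, hy⟩ := y
      replace hx : e.hom x = y := hx
      subst hx
      obtain ⟨i, j, m, s, hs, hij, hval⟩ := exists_rep (q ⟨e.hom x, hy⟩).2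
      obtain ⟨W, hW, iW, a, b, m', s', nin, hc, hw⟩ := (g : GrTilde.sect 𝒜 ℳ k (op (e.hom ⁻¹ᵁ V))).2 ⟨x, hy⟩
      have h0 : (LocalizedModule.mk (v m.1) (den hd hφ hdeg he x ⟨s.1, hs⟩) : GrTilde.LocMod 𝒜 (M := M) x) =
          LocalizedModule.mk m'.1 ⟨s'.1, nin ⟨x, hW⟩⟩ := by
        rw [← Ψ_mk hd hφ hdeg he v x m.1 ⟨s.1, hs⟩, ← hval]
        exact (hq ⟨e.hom x, hy⟩ ⟨x, hy⟩ rfl).trans (hw ⟨x, hW⟩)
      obtain ⟨c, hcx, hc₂⟩ := exists_nhd_eq (s := (⟨φ s.1, mem hdeg s.2⟩ : 𝒜 (j * d))) (s' := s')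
        (m := (⟨v m.1, v_mem v hvdeg m.2⟩ : ℳ (i * d))) (m' := m') _ _ h0
      let W' : (Proj 𝒜).Opens := W ⊓ Proj.basicOpen 𝒜 c ⊓ Proj.basicOpen 𝒜 (φ s.1)
      have hxW' : x ∈ W' := ⟨⟨hW, hcx⟩, (den hd hφ hdeg he x ⟨s.1, hs⟩).2⟩
      refine ⟨(e.inv ⁻¹ᵁ W') ⊓ V, ⟨show e.inv (e.hom x) ∈ W' by
        rw [← Scheme.Hom.comp_apply, e.hom_inv_id]; exact hxW', hy⟩, homOfLE inf_le_right, i, j, m, s,
        fun z => ?_, hij, fun z => ?_⟩
      · have hzs : e.inv z.1 ∈ Proj.basicOpen 𝒜 (φ s.1) := z.2.1.2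
        have hz : e.hom (e.inv z.1) = z.1 := by rw [← Scheme.Hom.comp_apply, e.inv_hom_id]; rfl
        intro hmem
        exact hzs ((mem_point hd hφ hdeg he (e.inv z.1) s.1).1 (by rw [hz]; exact hmem))
      · obtain ⟨z, hz⟩ := z
        obtain ⟨x', hx'⟩ := e.hom.homeomorph.surjective z
        replace hx' : e.hom x' = z := hx'
        subst hx'
        have hx'W : x' ∈ W' := by
          have := hz.1
          have h7 : e.inv (e.hom x') = x' := by rw [← Scheme.Hom.comp_apply, e.hom_inv_id]; rfl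
          show x' ∈ W'
          rw [← h7]
          exact this
        have h8 := hq ⟨e.hom x', hz.2⟩ ⟨x', hz.2⟩ rfl
        refine sub_eq_zero.1 (Ψ_eq_zero hd hφ hdeg he v hv hvdeg x' (n := n) ?_ ?_)
        · refine Submodule.sub_mem _ (q ⟨e.hom x', hz.2⟩).2 ?_
          rcases hij with hij | hij
          · exact Submodule.subset_span ⟨i, j, m, s, _, hij, rfl⟩
          · rw [hij, LocalizedModule.zero_mk]
            exact zero_mem _
        · have hsub : ∀ p p' : GrTilde.LocMod ℬ (M := N) (e.hom x'),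
              Ψ hd hφ hdeg he v x' p = Ψ hd hφ hdeg he v x' p' → Ψ hd hφ hdeg he v x' (p - p') = 0 := by
            intro p p' h
            have := Ψ_add hd hφ hdeg he v x' (p - p') p'
            rw [sub_add_cancel, h] at this
            exact right_eq_add.1 this
          refine hsub _ _ (h8.trans ?_)
          refine ((hw ⟨x', hx'W.1.1⟩).trans (hc₂ x' ?_ _ hx'W.1.2).symm).trans ?_
          · exact hx'W.2
          · rfl
    let f : Γ(GrTilde.tilde ℬ 𝒩 n, V) := (⟨fun y => q y, hloc⟩ : GrTilde.sect ℬ 𝒩 n (op V))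
    exact ⟨f, sect_ext fun x => hq ⟨e.hom x.1, x.2⟩ x rfl⟩

include hd hφ hdeg he hv hvdeg in
/-- The sheaf of the module pulls back to that of its Veronese. -/
theorem nonempty_iso {n k : ℤ} (hk : n * d = k) :
    Nonempty (GrTilde.tilde 𝒜 ℳ k ≅ (Scheme.Modules.pullback e.hom).obj (GrTilde.tilde ℬ 𝒩 n)) := by
  haveI := isIso_cmp hd hφ hdeg he v hv hvdeg hk
  haveI := isEquivalence_pullback e.hom
  let c := (Scheme.Modules.pullbackPushforwardAdjunction e.hom).counit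
  exact ⟨(asIso (c.app (GrTilde.tilde 𝒜 ℳ k))).symm ≪≫
    (Scheme.Modules.pullback e.hom).mapIso (asIso (cmp hd hφ hdeg he v hvdeg hk)).symm⟩

end Groth.Agent.VeroneseTildeLib

end
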