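import Groth.Agent.GrTildeLib.Stalk
import Groth.Agent.GrTildeLib.QCoh
import Groth.Agent.ProjTwistLib.Ample
import Groth.Agent.ProjQuotLib.Basic
import Groth.Agent.S3580

/-!
The Veronese isomorphism on points and on functions.
-/

set_option autoImplicit false
set_option linter.style.haveILetI false
set_option linter.unusedSectionVars false
set_option backward.isDefEq.respectTransparency false

universe u

open CategoryTheory TopologicalSpace AlgebraicGeometry Opposite HomogeneousLocalization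

noncomputable section

namespace Groth.Agent.VeroneseTildeLib

variable {R A B : Type u} [CommRing R] [CommRing A] [Algebra R A] {𝒜 : ℕ → Submodule R A} [GradedAlgebra 𝒜]
  [CommRing B] [Algebra R B] {ℬ : ℕ → Submodule R B} [GradedAlgebra ℬ]
  {d : ℕ} {φ : B →ₐ[R] A}

/-- The isomorphism is the given one on charts. -/
def ChartCond (hd : 0 < d) (hdeg : ∀ n : ℕ, Submodule.map φ.toLinearMap (ℬ n) = 𝒜 (n * d)) (e : Proj 𝒜 ≅ Proj ℬ) :
    Prop :=
  ∀ (n : ℕ) (g : B) (hn : 0 < n) (hg : g ∈ ℬ n)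
    (θ : CommRingCat.of (Away ℬ g) ⟶ CommRingCat.of (Away 𝒜 (φ g))),
    (algebraMap (Away 𝒜 (φ g)) (Localization.Away (φ g))).comp θ.hom =
      (Localization.awayMap φ.toRingHom g).comp (algebraMap (Away ℬ g) (Localization.Away g)) →
    Proj.awayι 𝒜 (φ g) ((hdeg n).le (Submodule.mem_map_of_mem hg)) (Nat.mul_pos hn hd) ≫ e.hom =
      Spec.map θ ≫ Proj.awayι ℬ g hg hn

variable (hd : 0 < d) (hφ : Function.Injective φ)
  (hdeg : ∀ n : ℕ, Submodule.map φ.toLinearMap (ℬ n) = 𝒜 (n * d))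
  {e : Proj 𝒜 ≅ Proj ℬ} (he : ChartCond hd hdeg e)

include hdeg in
theorem mem {n : ℕ} {x : B} (hx : x ∈ ℬ n) : φ x ∈ 𝒜 (n * d) := S3580.mem hdeg hx

include hdeg hd in
theorem decompose_map (s : B) (i : ℕ) :
    (DirectSum.decompose 𝒜 (φ s) (i * d) : A) = φ (DirectSum.decompose ℬ s i : B) := by
  induction s using DirectSum.Decomposition.inductionOn ℬ with
  | zero => simp
  | @homogeneous j m =>
    rcases eq_or_ne j i with rfl | hne
    · rw [DirectSum.decompose_of_mem_same 𝒜 (mem hdeg m.2), DirectSum.decompose_of_mem_same ℬ m.2]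
    · rw [DirectSum.decompose_of_mem_ne 𝒜 (mem hdeg m.2) (fun h => hne (Nat.eq_of_mul_eq_mul_right hd h)),
        DirectSum.decompose_of_mem_ne ℬ m.2 hne, map_zero]
  | add a b ha hb => simp [DirectSum.decompose_add, ha, hb]

/-- The chart map. -/
abbrev θ {n : ℕ} {g : B} (hg : g ∈ ℬ n) : CommRingCat.of (Away ℬ g) ⟶ CommRingCat.of (Away 𝒜 (φ g)) :=
  CommRingCat.ofHom (S3580.θ hdeg hφ hg)

include he in
theorem chart {n : ℕ} {g : B} (hn : 0 < n) (hg : g ∈ ℬ n) :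
    Proj.awayι 𝒜 (φ g) (mem hdeg hg) (Nat.mul_pos hn hd) ≫ e.hom = Spec.map (θ hφ hdeg hg) ≫ Proj.awayι ℬ g hg hn :=
  he n g hn hg _ (RingHom.ext fun x => S3580.θ_val hdeg hφ hg x)

include hd hφ hdeg he in
theorem basicOpen_le {n : ℕ} {g : B} (hn : 0 < n) (hg : g ∈ ℬ n) :
    Proj.basicOpen 𝒜 (φ g) ≤ e.hom ⁻¹ᵁ Proj.basicOpen ℬ g :=
  ProjQuotLib.basicOpen_le_preimage e.hom hg hn (mem hdeg hg) (Nat.mul_pos hn hd) _ (chart hd hφ hdeg he hn hg)

include hd hφ hdeg he in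
theorem preimage_basicOpen {n : ℕ} {g : B} (hn : 0 < n) (hg : g ∈ ℬ n) :
    e.hom ⁻¹ᵁ Proj.basicOpen ℬ g = Proj.basicOpen 𝒜 (φ g) := by
  refine le_antisymm (fun x hx => ?_) (basicOpen_le hd hφ hdeg he hn hg)
  rw [← Proj.opensRange_awayι ℬ g hg hn] at hx
  obtain ⟨q, hq⟩ := hx
  haveI : IsIso (θ hφ hdeg hg) := (ConcreteCategory.isIso_iff_bijective _).2 (S3580.θ_bijective hdeg hφ hg)
  obtain ⟨p, rfl⟩ := (Spec.map (θ hφ hdeg hg)).homeomorph.surjective q
  have h : e.hom (Proj.awayι 𝒜 (φ g) (mem hdeg hg) (Nat.mul_pos hn hd) p) = e.hom x := by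
    rw [← hq, ← Scheme.Hom.comp_apply, chart hd hφ hdeg he hn hg]
    rfl
  rw [← e.hom.homeomorph.injective h, ← Proj.opensRange_awayι 𝒜 (φ g) (mem hdeg hg) (Nat.mul_pos hn hd)]
  exact ⟨p, rfl⟩

include hd hφ hdeg he in
theorem mem_point_homogeneous (x : Proj 𝒜) {i : ℕ} {s : B} (hs : s ∈ ℬ i) :
    s ∈ (e.hom x).asHomogeneousIdeal ↔ φ s ∈ x.asHomogeneousIdeal := by
  obtain ⟨m, t, hm, ht, htx⟩ := S3580.exists_not_mem (e.hom x)
  have hx : φ t ∉ x.asHomogeneousIdeal := by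
    have : x ∈ e.hom ⁻¹ᵁ Proj.basicOpen ℬ t := htx
    rw [preimage_basicOpen hd hφ hdeg he hm ht] at this
    exact this
  have h1 : (e.hom x ∈ Proj.basicOpen ℬ (t * s)) ↔ x ∈ Proj.basicOpen 𝒜 (φ (t * s)) := by
    rw [← preimage_basicOpen hd hφ hdeg he (show 0 < m + i by omega) (SetLike.mul_mem_graded ht hs)]
    rfl
  have h2 : t * s ∈ (e.hom x).asHomogeneousIdeal ↔ φ (t * s) ∈ x.asHomogeneousIdeal := not_iff_not.1 h1
  constructor
  · intro h
    have := h2.1 (Ideal.mul_mem_left _ t h)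
    rw [map_mul] at this
    exact (x.isPrime.mem_or_mem this).resolve_left hx
  · intro h
    have := h2.2 (by rw [map_mul]; exact Ideal.mul_mem_left _ _ h)
    exact ((e.hom x).isPrime.mem_or_mem this).resolve_left htx

include hd hφ hdeg he in
theorem mem_point (x : Proj 𝒜) (s : B) : s ∈ (e.hom x).asHomogeneousIdeal ↔ φ s ∈ x.asHomogeneousIdeal := by
  classical
  constructor
  · intro h
    rw [← DirectSum.sum_support_decompose ℬ s, map_sum]
    exact sum_mem fun i _ => (mem_point_homogeneous hd hφ hdeg he x (DirectSum.decompose ℬ s i).2).1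
      ((e.hom x).asHomogeneousIdeal.isHomogeneous i h)
  · intro h
    rw [← DirectSum.sum_support_decompose ℬ s]
    refine sum_mem fun i _ => (mem_point_homogeneous hd hφ hdeg he x (DirectSum.decompose ℬ s i).2).2 ?_
    rw [← decompose_map hd hdeg]
    exact x.asHomogeneousIdeal.isHomogeneous _ h

/-- The map of local rings. -/
def locMap (x : Proj 𝒜) : Twist.Loc ℬ (e.hom x) →+* Twist.Loc 𝒜 x :=
  IsLocalization.lift (M := (e.hom x).asHomogeneousIdeal.toIdeal.primeCompl)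
    (g := (algebraMap A (Twist.Loc 𝒜 x)).comp φ.toRingHom) fun s => by
      refine IsLocalization.map_units (M := x.asHomogeneousIdeal.toIdeal.primeCompl) _
        ⟨φ s.1, fun h => s.2 ((mem_point hd hφ hdeg he x s.1).2 h)⟩

theorem locMap_mk (x : Proj 𝒜) (b : B) (s : (e.hom x).asHomogeneousIdeal.toIdeal.primeCompl) :
    locMap hd hφ hdeg he x (Localization.mk b s) =
      Localization.mk (φ b)
        (⟨φ s.1, fun h => s.2 ((mem_point hd hφ hdeg he x s.1).2 h)⟩ : x.asHomogeneousIdeal.toIdeal.primeCompl) := by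
  rw [Localization.mk_eq_mk', Localization.mk_eq_mk', locMap, IsLocalization.lift_mk'_spec]
  simp only [RingHom.comp_apply]
  exact (IsLocalization.mk'_spec'_mk _ _ _ _).symm

include hd hφ hdeg he in
/-- The functions correspond through the map of local rings. -/
theorem val_app (V : (Proj ℬ).Opens) (c : Γ(Proj ℬ, V)) (x : (e.hom ⁻¹ᵁ V : (Proj 𝒜).Opens)) :
    ((e.hom.app V c : Twist.O (𝒜 := 𝒜) (op (e.hom ⁻¹ᵁ V))).1 x).val =
      locMap hd hφ hdeg he x.1 ((c : Twist.O (𝒜 := ℬ) (op V)).1 ⟨e.hom x.1, x.2⟩).val := by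
  obtain ⟨x, hx⟩ := x
  obtain ⟨n, t, hn, hxt, htV⟩ := ProjTwistLib.exists_homogeneous_nhd (𝒜 := ℬ) (U := V) (x := e.hom x) hx
  obtain ⟨j, b, hb, hc⟩ := GrTildeLib.exists_awayToSection hn t.2 ((Proj ℬ).presheaf.map (homOfLE htV).op c)
  have hle := basicOpen_le hd hφ hdeg he hn t.2
  have hxt' : x ∈ Proj.basicOpen 𝒜 (φ t.1) := by
    rw [← preimage_basicOpen hd hφ hdeg he hn t.2]
    exact hxt
  have h1 : (Proj 𝒜).presheaf.map (homOfLE (hle.trans ((Opens.map e.hom.base).map (homOfLE htV)).le)).op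
      (e.hom.app V c) = e.hom.appLE _ _ hle ((Proj ℬ).presheaf.map (homOfLE htV).op c) := by
    rw [← CommRingCat.comp_apply, ← CommRingCat.comp_apply, Scheme.Hom.map_appLE]
    rfl
  rw [hc] at h1
  have h1' := h1.trans (ConcreteCategory.congr_hom (ProjQuotLib.awayToSection_appLE e.hom t.2 hn (mem hdeg t.2)
    (Nat.mul_pos hn hd) _ (chart hd hφ hdeg he hn t.2) hle) (Away.mk ℬ t.2 j b hb))
  have h2 : (θ hφ hdeg t.2) (Away.mk ℬ t.2 j b hb) =
      Away.mk 𝒜 (mem hdeg t.2) j (φ b) (by simpa [mul_assoc] using mem hdeg hb) := S3580.θ_mk hdeg hφ t.2 j b hb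
  rw [CommRingCat.comp_apply, h2] at h1'
  have h3 := congrArg (fun s : Γ(Proj 𝒜, Proj.basicOpen 𝒜 (φ t.1)) =>
    ((s : Twist.O (𝒜 := 𝒜) (op (Proj.basicOpen 𝒜 (φ t.1)))).1 ⟨x, hxt'⟩).val) h1'
  have h4 := congrArg (fun s : Γ(Proj ℬ, Proj.basicOpen ℬ t.1) =>
    ((s : Twist.O (𝒜 := ℬ) (op (Proj.basicOpen ℬ t.1))).1 ⟨e.hom x, hxt⟩).val) hc
  refine (h3.trans ?_)
  rw [GrTildeLib.val_awayToSection]
  refine Eq.trans ?_ (congrArg (locMap hd hφ hdeg he x) h4).symm
  rw [GrTildeLib.val_awayToSection, locMap_mk]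
  simp only [map_pow]

end Groth.Agent.VeroneseTildeLib

end
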